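import Groth.Agent.AGF27.Hopf
import Groth.Agent.GrpSchLib.GaPts
import Groth.Agent.GrpSchLib.RedSubgroup
import Mathlib.Algebra.Polynomial.AlgebraMap

/-! An affine group with an additive coordinate is the additive group. -/

set_option autoImplicit false
set_option backward.isDefEq.respectTransparency.types false
universe u

open CategoryTheory MonoidalCategory CartesianMonoidalCategory MonObj GrpObj AlgebraicGeometry Polynomial
open Groth.Agent.GrpSchLib.Kunneth Groth.Agent.GrpSchLib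

namespace Groth.Agent.SGA7X.GaSub

variable {k : Type u} [Field k] [IsAlgClosed k] {U : Over (Spec (CommRingCat.of k))} [GrpObj U] [IsAffine U.left]
  [LocallyOfFiniteType U.hom] [IsReduced U.left]

theorem gaFn_comp_ev {S : Scheme.{u}} {X Y : Over S} (f : X ⟶ Y) (z : Γ(Y.left, ⊤)) :
    Red.gaFn (f ≫ GaPts.ptOfFn z : X ⟶ Red.Ga S) = f.left.appTop z := by
  rw [GaPts.gaFn_comp, GaPts.gaFn_ptOfFn]

omit [GrpObj U] [IsAlgClosed k] [LocallyOfFiniteType U.hom] [IsReduced U.left] in
theorem hom_ext_fn {T : Over (Spec (CommRingCat.of k))} {f g : T ⟶ U} (h : ev f = ev g) : f = g := by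
  ext1
  exact ext_of_isAffine (CommRingCat.hom_ext (RingHom.ext fun x => DFunLike.congr_fun h x))

theorem isMonHom_ptOfFn (z : Fn U)
    (hadd : ∀ g h : VecGrp.pt k k ⟶ U, pullFn (g * h) z = pullFn g z + pullFn h z) :
    IsMonHom (GaPts.ptOfFn z : U ⟶ Red.Ga (Spec (CommRingCat.of k))) := by
  let S := Spec (CommRingCat.of k)
  let φ : U ⟶ Red.Ga S := GaPts.ptOfFn z
  have hred : IsReduced (U ⊗ U).left := GrpSchLib.isReduced_pullback_of_perfectField U.hom U.hom
  have : LocallyOfFiniteType (U ⊗ U).hom :=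
    inferInstanceAs (LocallyOfFiniteType (Limits.pullback.fst U.hom U.hom ≫ U.hom))
  have : IsAffine (U ⊗ U).left := inferInstanceAs (IsAffine (Limits.pullback U.hom U.hom))
  have hμ : μ[U] ≫ φ = (φ ⊗ₘ φ) ≫ μ[Red.Ga S] := by
    refine GaPts.gaFn_injective ?_
    show Red.gaFn _ = Red.gaFn _
    rw [show (φ ⊗ₘ φ) ≫ μ[Red.Ga S] = (fst U U ≫ φ) * (snd U U ≫ φ) by rw [Hom.mul_def, lift_fst_comp_snd_comp],
      GaPts.gaFn_mul, gaFn_comp_ev, gaFn_comp_ev, gaFn_comp_ev]
    refine AGF27.eq_of_forall_pt (X := U ⊗ U) fun g => ?_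
    rw [map_add]
    show pullFn g (ev μ[U] z) = pullFn g (ev (fst U U) z) + pullFn g (ev (snd U U) z)
    have e : ∀ f : U ⊗ U ⟶ U, pullFn g (ev f z) = pullFn (g ≫ f) z := fun f => by
      rw [AGF27.pullFn_comp]; rfl
    rw [e, e, e, show g ≫ μ[U] = (g ≫ fst U U) * (g ≫ snd U U) by
      rw [Hom.mul_def]; congr 1; ext <;> simp]
    exact hadd _ _
  exact { one_hom := GaPts.gaFn_injective (by
            show Red.gaFn _ = Red.gaFn _
            rw [MonObj.one_eq_one (Red.Ga S), GaPts.gaFn_one, gaFn_comp_ev]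
            have h0 : pullFn (1 : VecGrp.pt k k ⟶ U) z = 0 := by
              have := hadd 1 1
              rw [_root_.one_mul] at this
              exact left_eq_add.mp this
            have : IsAffine (𝟙_ (Over S)).left := inferInstanceAs (IsAffine (Spec (CommRingCat.of k)))
            have : LocallyOfFiniteType (𝟙_ (Over S)).hom := inferInstanceAs (LocallyOfFiniteType (𝟙 S))
            have : IsReduced (𝟙_ (Over S)).left := inferInstanceAs (IsReduced (Spec (CommRingCat.of k)))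
            refine AGF27.eq_of_forall_pt (X := 𝟙_ (Over S)) fun g => ?_
            show pullFn g (ev η[U] z) = pullFn g 0
            rw [map_zero, ← h0, show (1 : VecGrp.pt k k ⟶ U) = g ≫ η[U] by
              rw [MonObj.one_eq_one U, MonObj.comp_one]]
            rw [AGF27.pullFn_comp]
            rfl)
          mul_hom := hμ }


theorem exists_iso_ga (z : Fn U)
    (hadd : ∀ g h : VecGrp.pt k k ⟶ U, pullFn (g * h) z = pullFn g z + pullFn h z)
    (hbij : Function.Bijective (aeval z : k[X] →ₐ[k] Fn U)) :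
    ∃ e : U ≅ Red.Ga (Spec (CommRingCat.of k)), IsMonHom e.hom := by
  let S := Spec (CommRingCat.of k)
  let φ : U ⟶ Red.Ga S := GaPts.ptOfFn z
  let E := AlgEquiv.ofBijective (aeval z : k[X] →ₐ[k] Fn U) hbij
  let t : Fn (Red.Ga S) := Red.gaFn (𝟙 (Red.Ga S))
  let h : Fn U →ₐ[k] Fn (Red.Ga S) := (aeval t).comp E.symm.toAlgHom
  have hz : h z = t := by
    show aeval t (E.symm z) = t
    rw [show E.symm z = X from E.injective (by simp [E]), aeval_X]
  let ψ₀ : (Red.Ga S).left ⟶ U.left :=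
    (Red.Ga S).left.toSpecΓ ≫ Spec.map (CommRingCat.ofHom h.toRingHom) ≫ U.left.isoSpec.inv
  have happ : ψ₀.appTop = CommRingCat.ofHom h.toRingHom := by
    simp only [ψ₀, Scheme.Hom.comp_appTop, Category.assoc, Scheme.toSpecΓ_appTop]
    rw [Scheme.ΓSpecIso_naturality, ← Category.assoc]
    refine (congrArg (· ≫ CommRingCat.ofHom h.toRingHom) (?_ : U.left.isoSpec.inv.appTop ≫
      (Scheme.ΓSpecIso Γ(U.left, ⊤)).hom = 𝟙 _)).trans (Category.id_comp _)
    rw [← Scheme.toSpecΓ_appTop, ← Scheme.Hom.comp_appTop, Scheme.toSpecΓ_isoSpec_inv]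
    rfl
  let ψ : Red.Ga S ⟶ U := Over.homMk ψ₀ (ext_of_isAffine (by
    rw [Scheme.Hom.comp_appTop, happ, ← cancel_epi (Scheme.ΓSpecIso (CommRingCat.of k)).inv]
    ext c
    exact h.commutes c))
  have hev : ∀ x, ev ψ x = h x := fun x => DFunLike.congr_fun (congrArg CommRingCat.Hom.hom happ) x
  have h1 : ψ ≫ φ = 𝟙 _ := GaPts.gaFn_injective (by
    show Red.gaFn _ = t
    rw [gaFn_comp_ev, ← hz, ← hev]
    rfl)
  have h2 : φ ≫ ψ = 𝟙 U := hom_ext_fn (AlgHom.ext fun x => by
    obtain ⟨q, rfl⟩ := hbij.2 x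
    rw [← Polynomial.aeval_algHom_apply, ← Polynomial.aeval_algHom_apply]
    congr 2
    show φ.left.appTop (ψ.left.appTop z) = z
    rw [show ψ.left.appTop z = t from (hev z).trans hz]
    show φ.left.appTop (Red.gaFn (𝟙 _)) = z
    rw [← GaPts.gaFn_comp, Category.comp_id]
    exact GaPts.gaFn_ptOfFn z)
  have hφ : IsMonHom φ := isMonHom_ptOfFn z hadd
  exact ⟨⟨φ, ψ, h2, h1⟩, hφ⟩

end Groth.Agent.SGA7X.GaSub
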