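import Groth.Agent.SGA7X.GaSub.Iso
import Groth.Agent.GrpSchLib.HomKernelIdeal
import Groth.Agent.GrpSchLib.MonoSubgroup

/-! The kernel of an additive function. -/

set_option autoImplicit false
set_option linter.unusedSectionVars false
set_option backward.isDefEq.respectTransparency.types false
universe u

open CategoryTheory CategoryTheory.Limits MonoidalCategory CartesianMonoidalCategory MonObj GrpObj AlgebraicGeometry
open Groth.Agent.GrpSchLib Groth.Agent.GrpSchLib.Kunneth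

namespace Groth.Agent.SGA7X.GaSub


variable {k : Type u} [Field k] [IsAlgClosed k] {C : Over (Spec (CommRingCat.of k))} [GrpObj C] [IsAffine C.left]
  [LocallyOfFiniteType C.hom] [IsReduced C.left]

theorem exists_kernel_additive (z : Fn C)
    (hadd : ∀ g h : VecGrp.pt k k ⟶ C, pullFn (g * h) z = pullFn g z + pullFn h z) :
    ∃ (K : Over (Spec (CommRingCat.of k))) (_ : GrpObj K) (a : K ⟶ C), IsMonHom a ∧ IsClosedImmersion a.left ∧
      (∀ g : VecGrp.pt k k ⟶ C, pullFn g z = 0 → ∃ l, l ≫ a = g) ∧ ev a z = 0 := by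
  let S := Spec (CommRingCat.of k)
  let φ : C ⟶ Red.Ga S := GaPts.ptOfFn z
  have hφ : IsMonHom φ := isMonHom_ptOfFn z hadd
  have : IsAffineHom (Red.GaZ.{u}).hom := inferInstanceAs (IsAffineHom (Spec.map _))
  have : IsSeparated (Red.Ga S).hom := inferInstanceAs (IsSeparated (pullback.snd Red.GaZ.hom (GaPts.toBaseZ S)))
  obtain ⟨K₀, a₀, hci, -, hiff⟩ := HomKernelIdeal.exists_kernel φ
  let K : Over S := Over.mk (a₀ ≫ C.hom)
  let a : K ⟶ C := Over.homMk a₀ rfl
  have : IsClosedImmersion a.left := hci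
  have : Mono a := (Over.forget _).mono_of_mono_map (inferInstanceAs (Mono a.left))
  have hfac : ∀ {T : Over S} (g : T ⟶ C), g ≫ φ = 1 → ∃ l : T ⟶ K, l ≫ a = g := fun {T} g hg => by
    obtain ⟨l, hl⟩ := (hiff T g).1 hg
    exact ⟨Over.homMk l (by show l ≫ a₀ ≫ C.hom = _; rw [← Category.assoc, hl, Over.w g]), Over.OverMorphism.ext hl⟩
  have ha : a ≫ φ = 1 := (hiff K a).2 ⟨𝟙 _, Category.id_comp _⟩
  obtain ⟨e, he⟩ := hfac η[C] (by rw [hφ.one_hom, MonObj.one_eq_one])
  obtain ⟨m, hm⟩ := hfac ((fst K K ≫ a) * (snd K K ≫ a)) (by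
    rw [@MonObj.mul_comp _ _ _ _ _ _ _ _ _ _ φ hφ, Category.assoc, Category.assoc, ha, MonObj.comp_one, MonObj.comp_one, _root_.one_mul])
  obtain ⟨v, hv⟩ := hfac a⁻¹ (by rw [@GrpObj.inv_comp _ _ _ _ _ _ _ _ _ φ hφ, ha, inv_one])
  obtain ⟨str, hmon⟩ := exists_grpObj_of_mono a e he m hm v hv
  refine ⟨K, str, a, hmon, inferInstance, fun g hg => hfac g (GaPts.gaFn_injective ?_), ?_⟩
  · show Red.gaFn _ = Red.gaFn _
    rw [gaFn_comp_ev, GaPts.gaFn_one]
    exact (ConcreteCategory.bijective_of_isIso (Scheme.ΓSpecIso (CommRingCat.of k)).hom).1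
      (hg.trans (map_zero (Scheme.ΓSpecIso (CommRingCat.of k)).hom.hom).symm)
  · show a.left.appTop z = 0
    rw [← gaFn_comp_ev a z, ha, GaPts.gaFn_one]

end Groth.Agent.SGA7X.GaSub
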