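import Groth.Agent.SGA7X.GaSub.Iso
import Groth.Agent.GrpSchLib.HomKernelIdeal
import Groth.Agent.GrpSchLib.IdentityComp
import Groth.Agent.GrpSchLib.Cartier
import Groth.Agent.GrpSchLib.MonoSubgroup

/-! An infinite kernel contains a nontrivial smooth connected subgroup. -/

set_option autoImplicit false
set_option linter.unusedSectionVars false
set_option backward.isDefEq.respectTransparency.types false
universe u

open CategoryTheory CategoryTheory.Limits MonoidalCategory CartesianMonoidalCategory MonObj GrpObj AlgebraicGeometry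
open TopologicalSpace Groth.Agent.GrpSchLib

namespace Groth.Agent.SGA7X.GaSub

variable {k : Type u} [Field k] [IsAlgClosed k]

local notation "P₀" => VecGrp.pt k k

theorem exists_lift_pt {X Y : Over (Spec (CommRingCat.of k))} (i : X ⟶ Y) [IsClosedImmersion i.left] (g : P₀ ⟶ Y)
    (h : g.left (IsLocalRing.closedPoint k) ∈ Set.range i.left) : ∃ g' : P₀ ⟶ X, g' ≫ i = g := by
  have : IsReduced (P₀ : Over (Spec (CommRingCat.of k))).left := inferInstanceAs (IsReduced (Spec (CommRingCat.of k)))
  obtain ⟨l, hl⟩ := H23.RedSub.exists_lift_closed g.left i.left (by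
    rintro _ ⟨x, rfl⟩
    rwa [show x = IsLocalRing.closedPoint k from @Subsingleton.elim (Spec (CommRingCat.of k)) inferInstance _ _])
  exact ⟨Over.homMk l (by rw [← Over.w i, ← Category.assoc, hl, Over.w g]), Over.OverMorphism.ext hl⟩

theorem finite_connectedComponents {X : Type*} [TopologicalSpace X] [NoetherianSpace X] :
    Finite (ConnectedComponents X) := by
  have := (NoetherianSpace.finite_irreducibleComponents (α := X)).to_subtype
  refine Finite.of_surjective (fun Z : irreducibleComponents X => ConnectedComponents.mk Z.2.1.nonempty.some) ?_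
  intro c
  obtain ⟨x, rfl⟩ := ConnectedComponents.surjective_coe c
  refine ⟨⟨irreducibleComponent x, irreducibleComponent_mem_irreducibleComponents x⟩, ?_⟩
  refine ConnectedComponents.coe_eq_coe'.2 ?_
  exact isIrreducible_irreducibleComponent.isConnected.isPreconnected.subset_connectedComponent
    mem_irreducibleComponent (Set.Nonempty.some_mem _)

/-- A group with infinitely many points has a nontrivial point in the component of the unit. -/
theorem exists_pt_ne_one {K : Over (Spec (CommRingCat.of k))} [GrpObj K] [LocallyOfFiniteType K.hom]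
    [QuasiCompact K.hom] (hinf : Infinite (P₀ ⟶ K)) :
    ∃ g : P₀ ⟶ K, g ≠ 1 ∧
      g.left (IsLocalRing.closedPoint k) ∈ connectedComponent (η[K].left (IsLocalRing.closedPoint k)) := by
  have : IsLocallyNoetherian K.left := LocallyOfFiniteType.isLocallyNoetherian K.hom
  have : CompactSpace K.left := by
    rw [← isCompact_univ_iff]
    simpa using QuasiCompact.isCompact_preimage (f := K.hom) Set.univ isOpen_univ isCompact_univ
  have : AlgebraicGeometry.IsNoetherian K.left := { }
  have := finite_connectedComponents (X := K.left)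
  obtain ⟨g, h, hne, hgh⟩ := Finite.exists_ne_map_eq_of_infinite
    fun g : P₀ ⟶ K => ConnectedComponents.mk (g.left (IsLocalRing.closedPoint k))
  let c : 𝟙_ (Over (Spec (CommRingCat.of k))) ⟶ P₀ := Over.homMk (𝟙 _) (by simp)
  let R : K ⟶ K := 𝟙 K * (toUnit K ≫ c ≫ g⁻¹)
  have hR : ∀ f : P₀ ⟶ K, f ≫ R = f * g⁻¹ := fun f => by
    rw [MonObj.comp_mul, Category.comp_id, ← Category.assoc f, ← Category.assoc (f ≫ toUnit K),
      show (f ≫ toUnit K) ≫ c = 𝟙 P₀ from Over.OverMorphism.ext (by
        have := Over.w ((f ≫ toUnit K) ≫ c)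
        simpa using this), Category.id_comp]
  have hbase : ∀ f : P₀ ⟶ K, R.left (f.left (IsLocalRing.closedPoint k)) =
      (f * g⁻¹).left (IsLocalRing.closedPoint k) := fun f => by rw [← hR f]; rfl
  have h1 : (1 : P₀ ⟶ K).left (IsLocalRing.closedPoint k) = η[K].left (IsLocalRing.closedPoint k) := by
    rw [Hom.one_def, Over.comp_left, Scheme.Hom.comp_apply]
    exact congrArg η[K].left (@Subsingleton.elim (Spec (CommRingCat.of k)) inferInstance _ _)
  refine ⟨h * g⁻¹, fun e => hne (mul_inv_eq_one.1 e).symm, ?_⟩
  have hsub : R.left '' connectedComponent (g.left (IsLocalRing.closedPoint k)) ⊆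
      connectedComponent (η[K].left (IsLocalRing.closedPoint k)) := by
    refine (isPreconnected_connectedComponent.image _ R.left.continuous.continuousOn).subset_connectedComponent
      ⟨_, mem_connectedComponent, ?_⟩
    rw [hbase, mul_inv_cancel, h1]
  exact hsub ⟨_, ConnectedComponents.coe_eq_coe'.1 hgh.symm, hbase h⟩

/-- The identity component of an infinite group, reduced: smooth, connected, nontrivial. -/
theorem exists_smooth_connected {K : Over (Spec (CommRingCat.of k))} [GrpObj K] [LocallyOfFiniteType K.hom]
    [QuasiCompact K.hom] (hinf : Infinite (P₀ ⟶ K)) :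
    ∃ (H : Over (Spec (CommRingCat.of k))) (_ : GrpObj H) (i : H ⟶ K), IsMonHom i ∧ IsClosedImmersion i.left ∧
      Smooth H.hom ∧ ConnectedSpace H.left ∧ ∃ g : P₀ ⟶ H, g ≠ 1 := by
  obtain ⟨g, hg1, hg⟩ := exists_pt_ne_one hinf
  obtain ⟨G₀, _, a, ha, hci, -, hr, -, -⟩ := exists_identityComponent (G := K)
  have : LocallyOfFiniteType G₀.hom := by rw [← Over.w a]; infer_instance
  have : QuasiCompact G₀.hom := by rw [← Over.w a]; infer_instance
  obtain ⟨H, _, b, hb, hbc, hred, hsurj, hft, -⟩ := RedSubgroup.exists_redSubgroup G₀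
  have : IsClosedImmersion (b ≫ a).left := by rw [Over.comp_left]; infer_instance
  have hrange : Set.range (b ≫ a).left = connectedComponent (η[K].left (IsLocalRing.closedPoint k)) := by
    rw [← hr]
    ext y
    simp only [Set.mem_range, Over.comp_left, Scheme.Hom.comp_apply]
    exact (b.left.surjective.exists (p := fun z => a.left z = y)).symm
  have : ConnectedSpace H.left := by
    have hne : Nonempty H.left := ⟨η[H].left (IsLocalRing.closedPoint k)⟩
    have : PreconnectedSpace H.left := ⟨(Scheme.Hom.isClosedEmbedding (b ≫ a).left).isInducing.isPreconnected_image.1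
      (by rw [Set.image_univ, hrange]; exact isPreconnected_connectedComponent)⟩
    exact { toNonempty := hne }
  obtain ⟨g', hg'⟩ := exists_lift_pt (b ≫ a) g (hrange.ge hg)
  refine ⟨H, inferInstance, b ≫ a, inferInstance, inferInstance,
    smooth_of_isReduced_of_isAlgClosed H, inferInstance, g', fun e => hg1 ?_⟩
  rw [← hg', e, MonObj.one_comp]

end Groth.Agent.SGA7X.GaSub
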