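import Groth.Agent.SGA7X.GaSub.Kernel
import Groth.Agent.SGA7X.GaSub.Ker
import Groth.Agent.SGA7X.GaCurve.Main
import Groth.Agent.AGF27.Unip.Main
import Groth.Agent.AGF27.InvUFD
import Groth.Agent.AGFHopf.UniPrim
import Groth.Agent.S4989
import Groth.Agent.S2102

/-! A smooth connected affine commutative group killed by `p` contains the additive group. -/

set_option autoImplicit false
set_option linter.unusedSectionVars false
set_option linter.style.haveILetI false
set_option backward.isDefEq.respectTransparency.types false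
universe u

open CategoryTheory CategoryTheory.Limits MonoidalCategory CartesianMonoidalCategory MonObj GrpObj AlgebraicGeometry
open TensorProduct
open Groth.Agent.GrpSchLib Groth.Agent.GrpSchLib.Kunneth Groth.Agent.AGF27
open scoped Groth.Agent.AGF27

namespace Groth.Agent.SGA7X.GaSub


variable {k : Type u} [Field k] [IsAlgClosed k]

local notation "P₀" => VecGrp.pt k k

variable {C : Over (Spec (CommRingCat.of k))} [GrpObj C] [IsAffine C.left]

theorem toPt_mulPts (g h : Fn C →ₐ[k] k) :
    toPt (GaCurve.mulPts (comulAlg C) g h) = toPt g * toPt h := toPt_lift C g h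

theorem toPt_iterate (g : Fn C →ₐ[k] k) (n : ℕ) :
    toPt ((GaCurve.mulPts (comulAlg C) g)^[n] (counitAlg C)) = toPt g ^ n := by
  induction n with
  | zero => rw [pow_zero]; exact toPt_pullFn (1 : P₀ ⟶ C)
  | succ n ih => rw [Function.iterate_succ_apply', toPt_mulPts, ih, pow_succ']

/-- The law on the functions of a group killed by `p`. -/
noncomputable def law {p : ℕ} (hp : 0 < p) (hcomm : ∀ g h : P₀ ⟶ C, g * h = h * g)
    (hkill : ∀ g : P₀ ⟶ C, g ^ p = 1) : GaCurve.Law k (Fn C) p where
  Δ := comulAlg C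
  e := counitAlg C
  assoc g h l := (ptEquiv (X := C)).symm.injective (show toPt _ = toPt _ by
    rw [toPt_mulPts, toPt_mulPts, toPt_mulPts, toPt_mulPts, _root_.mul_assoc])
  comm g h := (ptEquiv (X := C)).symm.injective (show toPt _ = toPt _ by
    rw [toPt_mulPts, toPt_mulPts, hcomm])
  one_mul g := (ptEquiv (X := C)).symm.injective (show toPt _ = toPt _ by
    rw [toPt_mulPts, counitAlg, toPt_pullFn, _root_.one_mul])
  killed g := (ptEquiv (X := C)).symm.injective (show toPt _ = toPt _ by
    rw [toPt_iterate, hkill, counitAlg, toPt_pullFn])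
  hp := hp

variable [Smooth C.hom] [ConnectedSpace C.left]

theorem isIntegrallyClosed_fn : IsIntegrallyClosed (Fn C) := by
  haveI := Groth.Agent.GrpSchLib.Kunneth.isIntegral_grp C
  refine S2102.result C.left fun x => ?_
  have : IsField ((Spec (CommRingCat.of k)).presheaf.stalk (C.hom x)) := by
    have : IsIntegral (Spec (CommRingCat.of k)) := inferInstance
    rw [show C.hom x = genericPoint (Spec (CommRingCat.of k)) from
      @Subsingleton.elim (Spec (CommRingCat.of k)) inferInstance _ _]
    exact Field.toIsField (Spec (CommRingCat.of k)).functionField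
  let := this.toField
  exact (S4989.result C.hom x (by rw [Scheme.Hom.smoothLocus_eq_top]; trivial)).2.2
    ⟨inferInstance, inferInstance⟩

theorem no_torus (p : ℕ) [Fact p.Prime] [CharP k p] (hkill : ∀ g : P₀ ⟶ C, g ^ p = 1)
    (ψ : Fn C →ₐc[k] MonoidAlgebra k Unip.Z1) : ¬ Function.Surjective ψ := by
  classical
  intro hψ
  let ch : kˣ → (MonoidAlgebra k Unip.Z1 →ₐ[k] k) := fun a =>
    MonoidAlgebra.lift k k Unip.Z1
      { toFun := fun n => ((a ^ (Multiplicative.toAdd n 0) : kˣ) : k)
        map_one' := by simp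
        map_mul' := fun m n => by simp [zpow_add] }
  let E : kˣ →* (P₀ ⟶ C) := MonoidHom.mk' (fun a => toPt ((ch a).comp (ψ : Fn C →ₐ[k] MonoidAlgebra k Unip.Z1)))
    fun a b => by
      rw [← toPt_lift]
      congr 1
      refine AlgHom.ext fun x => ?_
      show ch (a * b) (ψ x) = _
      rw [AlgHom.comp_apply]
      rw [show Algebra.TensorProduct.lift ((ch a).comp (ψ : Fn C →ₐ[k] MonoidAlgebra k Unip.Z1))
          ((ch b).comp (ψ : Fn C →ₐ[k] MonoidAlgebra k Unip.Z1)) (fun _ _ => Commute.all _ _) =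
          (Algebra.TensorProduct.lift (ch a) (ch b) fun _ _ => Commute.all _ _).comp
            (Algebra.TensorProduct.map (ψ : Fn C →ₐ[k] MonoidAlgebra k Unip.Z1)
              (ψ : Fn C →ₐ[k] MonoidAlgebra k Unip.Z1)) from by
        apply Algebra.TensorProduct.ext <;> ext y <;> simp]
      have hm : Algebra.TensorProduct.map (ψ : Fn C →ₐ[k] MonoidAlgebra k Unip.Z1)
          (ψ : Fn C →ₐ[k] MonoidAlgebra k Unip.Z1) (comulAlg C x) = Coalgebra.comul (R := k) (ψ x) :=
        CoalgHomClass.map_comp_comul_apply ψ x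
      rw [AlgHom.comp_apply, hm]
      generalize ψ x = y
      induction y using MonoidAlgebra.induction_linear with
      | zero => simp
      | add q r hq hr => simp only [map_add, hq, hr]
      | single n r =>
        simp [ch, MonoidAlgebra.comul_single, MonoidAlgebra.lift_single, mul_zpow, mul_left_comm]
  have hinj : Function.Injective E := by
    intro a b hab
    have h := congrArg pullFn hab
    simp only [E, MonoidHom.mk'_apply, pullFn_toPt] at h
    obtain ⟨x, hx⟩ := hψ (MonoidAlgebra.single (Multiplicative.ofAdd 1) 1)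
    have h2 := DFunLike.congr_fun h x
    simp only [AlgHom.comp_apply] at h2
    erw [hx] at h2
    simpa [ch, MonoidAlgebra.lift_single, Units.val_inj] using h2
  have hall : ∀ a : kˣ, a = 1 := fun a => by
    have h := hkill (E a)
    rw [← map_pow, ← map_one E] at h
    exact Units.ext (frobenius_inj k p (by simpa [frobenius_def] using congrArg Units.val (hinj h)))
  obtain ⟨c, hc⟩ := Infinite.exists_notMem_finset ({0, 1} : Finset k)
  simp only [Finset.mem_insert, Finset.mem_singleton, not_or] at hc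
  exact hc.2 (congrArg Units.val (hall (Units.mk0 c hc.1)))

theorem exists_additive (p : ℕ) [Fact p.Prime] [CharP k p] (hkill : ∀ g : P₀ ⟶ C, g ^ p = 1)
    (hne : ∃ g : P₀ ⟶ C, g ≠ 1) :
    ∃ z : Fn C, z ≠ 0 ∧ ∀ g h : P₀ ⟶ C, pullFn (g * h) z = pullFn g z + pullFn h z := by
  haveI := isDomain_fn (G := C)
  have hU : HopfRep.IsUnipotent k (Fn C) := Unip.isUnipotent_of_no_torus (no_torus p hkill)
  obtain ⟨z, hz0, hz⟩ := AGFHopf.exists_primitive_of_isUnipotent hU (by
    intro h
    obtain ⟨g, hg⟩ := hne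
    refine hg (pt_ext (AlgHom.ext fun a => ?_))
    have : a - algebraMap k (Fn C) (Bialgebra.counitAlgHom k (Fn C) a) ∈ (⊥ : Ideal (Fn C)) := h ▸ (by
      rw [RingHom.mem_ker, map_sub, AlgHom.commutes]; simp)
    rw [Submodule.mem_bot, sub_eq_zero] at this
    rw [this, AlgHom.commutes, AlgHom.commutes])
  refine ⟨z, hz0, fun g h => ?_⟩
  conv_lhs => rw [← toPt_pullFn g, ← toPt_pullFn h, ← toPt_lift, pullFn_toPt, AlgHom.comp_apply,
    ← comul_eq, hz]
  simp

variable {p : ℕ} [Fact p.Prime] [CharP k p]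

/-- One step: either the additive group, or a smaller subgroup. -/
theorem exists_ga_or_smaller (hcomm : ∀ g h : P₀ ⟶ C, g * h = h * g)
    (hkill : ∀ g : P₀ ⟶ C, g ^ p = 1) (hne : ∃ g : P₀ ⟶ C, g ≠ 1) :
    (∃ e : C ≅ Red.Ga (Spec (CommRingCat.of k)), IsMonHom e.hom) ∨
    ∃ (H : Over (Spec (CommRingCat.of k))) (_ : GrpObj H) (i : H ⟶ C), IsMonHom i ∧ IsClosedImmersion i.left ∧
      IsAffine H.left ∧ Smooth H.hom ∧ ConnectedSpace H.left ∧ (∃ g : P₀ ⟶ H, g ≠ 1) ∧
      ∃ z : Fn C, z ≠ 0 ∧ ev i z = 0 := by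
  haveI := isDomain_fn (G := C)
  haveI := isIntegrallyClosed_fn (C := C)
  haveI := Groth.Agent.GrpSchLib.Kunneth.isIntegral_grp C
  let L := law (C := C) (Fact.out : p.Prime).pos hcomm hkill
  have hprim : ∀ z, L.IsPrim z ↔ ∀ g h : P₀ ⟶ C, pullFn (g * h) z = pullFn g z + pullFn h z := by
    intro z
    constructor
    · intro h a b
      have := h ⟨pullFn a⟩ ⟨pullFn b⟩
      rw [GaCurve.Law.add_f] at this
      rwa [show GaCurve.mulPts L.Δ (pullFn a) (pullFn b) = pullFn (a * b) from
        (ptEquiv (X := C)).symm.injective (show toPt _ = toPt _ by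
          rw [show L.Δ = comulAlg C from rfl, toPt_mulPts]; simp)] at this
    · intro h a b
      rw [GaCurve.Law.add_f, show GaCurve.mulPts L.Δ a.f b.f = pullFn (toPt a.f * toPt b.f) by
        rw [← toPt_mulPts, pullFn_toPt]; rfl, h, pullFn_toPt, pullFn_toPt]
  by_cases hfin : ∀ z : Fn C, z ≠ 0 → L.IsPrim z → {g : L.P | g.f z = 0}.Finite
  · left
    obtain ⟨x, hx0, hx⟩ := exists_additive p hkill hne
    obtain ⟨z, hz, hbij⟩ := L.exists_coordinate hfin x ((hprim x).2 hx) hx0
    exact exists_iso_ga z ((hprim z).1 hz) hbij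
  · right
    simp only [not_forall] at hfin
    obtain ⟨z, hz0, hz, hinf⟩ := hfin
    obtain ⟨K, _, a, _, _, hfac, hz'⟩ := exists_kernel_additive z ((hprim z).1 hz)
    haveI : LocallyOfFiniteType K.hom := by rw [← Over.w a]; infer_instance
    haveI : QuasiCompact K.hom := by rw [← Over.w a]; infer_instance
    have hK : Infinite (P₀ ⟶ K) := by
      have : Infinite {g : L.P | g.f z = 0} := Set.infinite_coe_iff.2 hinf
      have hl : ∀ g : {g : L.P | g.f z = 0}, ∃ l : P₀ ⟶ K, l ≫ a = toPt g.1.f := fun g => hfac _ (by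
        rw [pullFn_toPt]; exact g.2)
      choose l hl using hl
      exact Infinite.of_injective l fun g g' h => Subtype.ext (GaCurve.Law.P.ext
        ((pullFn_toPt _).symm.trans ((congrArg pullFn (by rw [← hl, ← hl, h])).trans (pullFn_toPt _))))
    obtain ⟨H, _, i, hi, hic, hsm, hconn, hne'⟩ := exists_smooth_connected hK
    haveI : IsClosedImmersion (i ≫ a).left := by rw [Over.comp_left]; infer_instance
    refine ⟨H, inferInstance, i ≫ a, inferInstance, inferInstance, isAffine_of_isAffineHom (i ≫ a).left, hsm, hconn,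
      hne', z, hz0, ?_⟩
    show (i ≫ a).left.appTop z = 0
    rw [Over.comp_left, Scheme.Hom.comp_appTop]
    show i.left.appTop (a.left.appTop z) = 0
    rw [show a.left.appTop z = 0 from hz', map_zero]

/-- A nontrivial smooth connected affine commutative group killed by `p` contains the additive group. -/
theorem exists_ga_of_killed {U : Over (Spec (CommRingCat.of k))} [GrpObj U] [IsCommMonObj U] [IsAffine U.left]
    [Smooth U.hom] [ConnectedSpace U.left] (hkill : ∀ g : P₀ ⟶ U, g ^ p = 1) (hne : ∃ g : P₀ ⟶ U, g ≠ 1) :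
    ∃ j : Red.Ga (Spec (CommRingCat.of k)) ⟶ U, IsMonHom j ∧ IsClosedImmersion j.left := by
  haveI : LocallyOfFiniteType U.hom := inferInstance
  suffices key : ∀ (I : Ideal (Fn U)) (C : Over (Spec (CommRingCat.of k))) [GrpObj C] [IsAffine C.left] [Smooth C.hom]
      [ConnectedSpace C.left] (i : C ⟶ U) [IsMonHom i] [IsClosedImmersion i.left],
      RingHom.ker (ev i) = I → (∃ g : P₀ ⟶ C, g ≠ 1) →
      ∃ j : Red.Ga (Spec (CommRingCat.of k)) ⟶ U, IsMonHom j ∧ IsClosedImmersion j.left by
    haveI : IsClosedImmersion (𝟙 U : U ⟶ U).left := by rw [Over.id_left]; infer_instance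
    exact key _ U (𝟙 U) rfl hne
  intro I
  induction I using WellFoundedGT.induction with
  | ind I ih =>
    intro C _ _ _ _ i _ _ hI hC
    haveI : Mono i := (Over.forget _).mono_of_mono_map (inferInstanceAs (Mono i.left))
    have hcomm : ∀ g h : P₀ ⟶ C, g * h = h * g := fun g h => (cancel_mono i).1 (by
      rw [MonObj.mul_comp, MonObj.mul_comp, mul_comm])
    have hkC : ∀ g : P₀ ⟶ C, g ^ p = 1 := fun g => (cancel_mono i).1 (by
      rw [MonObj.pow_comp, hkill, MonObj.one_comp])
    rcases exists_ga_or_smaller (p := p) hcomm hkC hC with ⟨e, he⟩ | ⟨H, _, a, _, _, _, _, _, hH, z, hz0, hz⟩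
    · haveI : IsMonHom e.inv := inferInstance
      refine ⟨e.inv ≫ i, inferInstance, ?_⟩
      haveI : IsIso e.inv.left := ((Over.forget _).mapIso e.symm).isIso_hom
      rw [Over.comp_left]; infer_instance
    · haveI : IsClosedImmersion (a ≫ i).left := by rw [Over.comp_left]; infer_instance
      refine ih (RingHom.ker (ev (a ≫ i))) ?_ H (a ≫ i) rfl hH
      have hev : ∀ x, ev (a ≫ i) x = ev a (ev i x) := fun x => by
        show (a ≫ i).left.appTop x = a.left.appTop (i.left.appTop x)
        rw [Over.comp_left, Scheme.Hom.comp_appTop]; rfl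
      refine lt_of_le_of_ne (fun x hx => ?_) fun e => ?_
      · rw [← hI] at hx
        rw [RingHom.mem_ker] at hx ⊢
        rw [hev, hx, map_zero]
      · obtain ⟨x, hx⟩ := (IsClosedImmersion.isAffine_surjective_of_isAffine i.left).2 z
        have hxm : x ∈ RingHom.ker (ev (a ≫ i)) := by
          rw [RingHom.mem_ker, hev, show ev i x = z from hx, hz]
        rw [← e, ← hI, RingHom.mem_ker] at hxm
        exact hz0 ((show z = ev i x from hx.symm).trans hxm)

end Groth.Agent.SGA7X.GaSub
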